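import Cfsg.Agent.H613.KS.Defs
import Cfsg.Agent.H842.KKL.Fischer

/-!
# S4577: the rows `Fi22`, `Fi23` (helper842)

* `orbit` : the orbit of an element of `D` under the element of order five: five elements with product `1`;
* `E_Fi22`, `E_Fi23`.
-/

set_option autoImplicit false
set_option maxRecDepth 100000

namespace Cfsg.Agent.H842.KS

open Subgroup Cfsg Cfsg.Agent.H613.KS
open Cfsg.Agent.H842.KKL (QQ)

section Abs

variable {S : Type*} [Group S]

/-- transport of configurations -/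
theorem cfg_map {S' : Type*} [Group S'] (e : S ≃* S') {D : Subgroup S} {x : S} (h : Cfg D x) :
    Cfg (D.map e.toMonoidHom) (e x) := by
  have hm : ∀ {K : Subgroup S} {s : S'}, s ∈ K.map e.toMonoidHom ↔ e.symm s ∈ K := by
    intro K s
    rw [Subgroup.mem_map_equiv]
  have hp : ∀ {Q : Subgroup S'}, IsPGroup 2 ↥Q → IsPGroup 2 ↥(Q.map e.symm.toMonoidHom) := fun h => h.map _
  have hsm : ∀ {Q : Subgroup S'} {s : S}, s ∈ Q.map e.symm.toMonoidHom ↔ e s ∈ Q := by
    intro Q s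
    rw [Subgroup.mem_map_equiv]
    rfl
  constructor
  · constructor
    · rw [Subgroup.card_map_of_injective e.injective, h.e16.card]
    · intro d hd
      have h1 := h.e16.inv _ (hm.1 hd)
      rw [← map_mul] at h1
      exact e.symm.injective (by rw [h1, map_one])
  · have : orderOf (e x) = orderOf x := orderOf_injective e.toMonoidHom e.injective x
    rw [this]
    exact h.odd
  · intro d hd
    have h1 := h.comm _ (hm.1 hd)
    have h2 := congrArg e h1
    simpa using h2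
  · intro Q hQ hc
    obtain ⟨c, h1, h2⟩ := h.syl _ (hp hQ) (by
      intro q hq
      have h3 := hc _ (hsm.1 hq)
      rw [← map_mul, ← map_mul] at h3
      exact e.injective h3)
    refine ⟨e c, by rw [← map_mul, h1, map_mul], ?_⟩
    intro q hq
    rw [hm]
    have h3 := h2 (e.symm q) (by rw [hsm, e.apply_symm_apply]; exact hq)
    simpa using h3
  · obtain ⟨y, h1⟩ := h.five
    refine ⟨e y, ?_, ?_, ?_⟩
    · intro d
      rw [hm, hm, ← h1.norm (e.symm d)]
      simp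
    · obtain ⟨m, h2⟩ := h1.five
      exact ⟨m, by rw [← h2]; exact orderOf_injective e.toMonoidHom e.injective y⟩
    · intro A hA hi
      rcases h1.irr (A.map e.symm.toMonoidHom) (by
        intro a ha
        have h2 := hm.1 (hA (hsm.1 ha))
        rwa [e.symm_apply_apply] at h2) (by
        intro a ha
        rw [hsm] at ha ⊢
        have h2 := hi _ ha
        simpa using h2) with h2 | h2
      · left
        rw [eq_bot_iff_forall]
        intro a ha
        have h3 : e.symm a ∈ A.map e.symm.toMonoidHom := ⟨a, ha, rfl⟩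
        rw [h2, mem_bot] at h3
        exact e.symm.injective (by rw [h3, map_one])
      · right
        ext a
        rw [hm, ← h2, hsm, e.apply_symm_apply]
  · intro R hR N hN hNR hn
    have h1 := h.rad (R.map e.symm.toMonoidHom) (by
      intro r hr
      have h2 := hm.1 (hR (hsm.1 hr))
      rwa [e.symm_apply_apply] at h2) (N.map e.symm.toMonoidHom) (hp hN) (by
      intro n hn2
      rw [mem_centralizer_iff]
      intro r hr
      have h2 := (mem_centralizer_iff.1 (hNR (hsm.1 hn2))) _ (hsm.1 hr)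
      rw [← map_mul, ← map_mul] at h2
      exact e.injective h2) (by
      intro c hc n hn2
      rw [hsm]
      have h2 := hn (e c) (by
        rw [mem_centralizer_iff]
        intro r hr
        have h3 := (mem_centralizer_iff.1 hc) (e.symm r) (by
          have : e.symm r ∈ R.map e.symm.toMonoidHom := ⟨r, hr, rfl⟩
          exact this)
        have h4 := congrArg e h3
        simpa using h4) (e n) (hsm.1 hn2)
      simpa using h2)
    intro n hn2
    rw [hm]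
    exact h1 ⟨n, hn2, rfl⟩

theorem noCfg_congr {S' : Type*} [Group S'] (e : S ≃* S') (h : NoCfg S') : NoCfg S :=
  fun _ _ hc => h _ _ (cfg_map e hc)

section E16

variable {D : Subgroup S} {x y : S}

theorem e16_comm (h : E16 D) {a b : S} (ha : a ∈ D) (hb : b ∈ D) : a * b = b * a := by
  have h1 := h.inv _ (mul_mem ha hb)
  have h2 := h.inv a ha
  have h3 := h.inv b hb
  calc a * b = a * (a * b * (a * b)) * b := by rw [h1, mul_one]
    _ = (a * a) * (b * a) * (b * b) := by group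
    _ = b * a := by rw [h2, h3, one_mul, mul_one]

theorem finite_D (h : E16 D) : Finite ↥D := Nat.finite_of_card_ne_zero (by rw [h.card]; norm_num)

theorem exists_ne_one (h : E16 D) : ∃ d ∈ D, d ≠ 1 := by
  have h1 : D ≠ ⊥ := by
    rintro rfl
    have := h.card
    rw [card_bot] at this
    omega
  obtain ⟨d, hd⟩ := Subgroup.ne_bot_iff_exists_ne_one.1 h1
  exact ⟨d, d.2, fun h0 => hd (Subtype.ext h0)⟩

theorem rad_one (h : Cfg D x) {z : S} (hz : z ∈ D) {N : Subgroup S} (hN : IsPGroup 2 ↥N)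
    (hNz : N ≤ centralizer ({z} : Set S)) (hn : ∀ c ∈ centralizer ({z} : Set S), ∀ n ∈ N, c * n * c⁻¹ ∈ N) :
    N ≤ D := by
  have hc : centralizer ((zpowers z : Subgroup S) : Set S) = centralizer ({z} : Set S) := by
    rw [zpowers_eq_closure, centralizer_closure]
  refine h.rad (zpowers z) (zpowers_le.2 hz) N hN (by rw [hc]; exact hNz) (by rw [hc]; exact hn)

/-- no fixed points -/
theorem fix_one (h : E16 D) (hy : Five D y) {d : S} (hd : d ∈ D) (hc : y * d * y⁻¹ = d) : d = 1 := by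
  rcases hy.irr (zpowers d) (zpowers_le.2 hd) (by
    rintro _ ⟨k, rfl⟩
    refine ⟨k, ?_⟩
    show d ^ k = y * d ^ k * y⁻¹
    rw [← conj_zpow, hc]) with h1 | h1
  · exact zpowers_eq_bot.1 h1
  · exfalso
    have h2 := h.card
    rw [← h1, Nat.card_zpowers] at h2
    have h3 : orderOf d ∣ 2 := orderOf_dvd_of_pow_eq_one (by rw [pow_two]; exact h.inv d hd)
    rw [h2] at h3
    have := Nat.le_of_dvd (by norm_num) h3
    omega

/-- the orbit of an element of `D` -/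
theorem orbit (h : E16 D) (hy : Five D y) {t : S} (ht : t ∈ D) (ht1 : t ≠ 1) :
    ∃ f : ℕ → S, f 0 = t ∧ (∀ i, f i ∈ D) ∧ (∀ i, ∃ g : S, f i = g * t * g⁻¹) ∧
      (∀ i < 5, ∀ j < 5, f i = f j → i = j) ∧ f 0 * f 1 * f 2 * f 3 * f 4 = 1 := by
  have := finite_D h
  have := Fintype.ofFinite ↥D
  let F : ↥D → ↥D := fun a => ⟨y * a * y⁻¹, (hy.norm a).2 a.2⟩
  have hF : ∀ (n : ℕ) (a : ↥D), ((F^[n] a : ↥D) : S) = y ^ n * a * (y ^ n)⁻¹ := by
    intro n
    induction n with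
    | zero =>
      intro a
      simp
    | succ n ih =>
      intro a
      rw [Function.iterate_succ_apply', pow_succ']
      show y * ((F^[n] a : ↥D) : S) * y⁻¹ = _
      rw [ih]
      group
  have hinj : Function.Injective F := by
    intro a b hab
    have h1 : y * (a : S) * y⁻¹ = y * b * y⁻¹ := congrArg Subtype.val hab
    exact Subtype.ext (mul_left_cancel (mul_right_cancel h1))
  have per : ∀ a : ↥D, Function.IsPeriodicPt F 5 a := by
    intro a
    obtain ⟨m, hm⟩ := hy.five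
    have h1 : Function.IsPeriodicPt F (5 ^ m) a := by
      refine Subtype.ext ?_
      rw [hF, ← hm, pow_orderOf_eq_one]
      simp
    obtain ⟨k, hk, hk2⟩ := (Nat.dvd_prime_pow Nat.prime_five).1 h1.minimalPeriod_dvd
    have h3 : Function.minimalPeriod F a ≤ Fintype.card ↥D := Function.minimalPeriod_le_card
    rw [← Nat.card_eq_fintype_card, h.card, hk2] at h3
    have h4 : k < 2 := by
      by_contra hk3
      have : 5 ^ 2 ≤ 5 ^ k := Nat.pow_le_pow_right (by norm_num) (by omega)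
      omega
    refine (Function.isPeriodicPt_minimalPeriod F a).trans_dvd ?_
    rw [hk2]
    interval_cases k
    · norm_num
    · norm_num
  have hfix : ∀ a : ↥D, Function.IsPeriodicPt F 1 a → (a : S) = 1 := by
    intro a ha
    exact fix_one h hy a.2 (congrArg Subtype.val ha)
  let f : ℕ → S := fun i => ((F^[i] ⟨t, ht⟩ : ↥D) : S)
  have f0 : f 0 = t := rfl
  have fs : ∀ i, f (i + 1) = y * f i * y⁻¹ := by
    intro i
    show ((F^[i + 1] ⟨t, ht⟩ : ↥D) : S) = _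
    rw [Function.iterate_succ_apply']
  have f5 : f 5 = f 0 := congrArg Subtype.val (per ⟨t, ht⟩)
  have fD : ∀ i, f i ∈ D := fun i => (F^[i] ⟨t, ht⟩).2
  refine ⟨f, f0, fD, fun i => ⟨y ^ i, hF i _⟩, ?_, ?_⟩
  · have key : ∀ i j : ℕ, i < j → j < 5 → f i ≠ f j := by
      intro i j hij hj h0
      apply ht1
      refine hfix ⟨t, ht⟩ ?_
      have h1 : F^[i] ⟨t, ht⟩ = F^[i] (F^[j - i] ⟨t, ht⟩) := by
        rw [← Function.iterate_add_apply, Nat.add_sub_cancel' hij.le]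
        exact Subtype.ext h0
      have h2 : Function.IsPeriodicPt F (j - i) (⟨t, ht⟩ : ↥D) := (hinj.iterate i h1).symm
      have h3 := (per ⟨t, ht⟩).gcd h2
      have h4 : Nat.gcd 5 (j - i) = 1 := by
        rw [← Nat.coprime_iff_gcd_eq_one, Nat.Prime.coprime_iff_not_dvd Nat.prime_five]
        intro h5
        have := Nat.le_of_dvd (by omega) h5
        omega
      rwa [h4] at h3
    intro i hi j hj h0
    rcases lt_trichotomy i j with h1 | h1 | h1
    · exact absurd h0 (key i j h1 hj)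
    · exact h1
    · exact absurd h0.symm (key j i h1 hi)
  · refine fix_one h hy (mul_mem (mul_mem (mul_mem (mul_mem (fD 0) (fD 1)) (fD 2)) (fD 3)) (fD 4)) ?_
    have e0 := fs 0
    have e1 := fs 1
    have e2 := fs 2
    have e3 := fs 3
    have e4 := fs 4
    simp only [Nat.reduceAdd] at e0 e1 e2 e3 e4
    rw [f5] at e4
    calc y * (f 0 * f 1 * f 2 * f 3 * f 4) * y⁻¹
        = (y * f 0 * y⁻¹) * (y * f 1 * y⁻¹) * (y * f 2 * y⁻¹) * (y * f 3 * y⁻¹) * (y * f 4 * y⁻¹) := by group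
      _ = f 1 * f 2 * f 3 * f 4 * f 0 := by rw [← e0, ← e1, ← e2, ← e3, ← e4]
      _ = f 0 * (f 1 * f 2 * f 3 * f 4) :=
        e16_comm h (mul_mem (mul_mem (mul_mem (fD 1) (fD 2)) (fD 3)) (fD 4)) (fD 0)
      _ = f 0 * f 1 * f 2 * f 3 * f 4 := by group

end E16

end Abs

/-! ### `Fi22` -/

section Fi22

open Cfsg.Agent.R01.FiFusion Cfsg.Agent.R01.FiFacts
open Cfsg.Agent.OddHalf.D4.Spor.Fi22 (inv_cases)
open Cfsg.Agent.StdFi22.MainFi22 (bas)
open Cfsg.Agent.R08.AutT (T)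

theorem noCfg_fi22 : NoCfg Spor.Fi22 := by
  have := CTwoTab.Fi22.finite
  have tf := Cfsg.Agent.R08.AutT.tFacts
  intro D x hc
  -- a transposition in `D`
  obtain ⟨z, hzD, hz1⟩ := exists_ne_one hc.e16
  have hz := hc.e16.inv z hzD
  have hQ : QQ T z := by
    rcases inv_cases hz hz1 with h | ⟨a, ha, b, hb, hab, cab, rfl⟩ | ⟨a, b, c, h, rfl⟩
    · refine QQ.of_set (s := {z}) h rfl ?_ ?_ ?_ ?_
      · rintro _ rfl
        exact hz
      · rintro _ rfl _ rfl
        rfl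
      · rintro _ rfl
        rfl
      · rintro c hc _ rfl
        rw [hc, mul_inv_cancel_right]
        rfl
    · obtain ⟨R, F⟩ := CTwoTab.Fi22.facts ha hb hab cab
      refine ⟨a, ha, R, F.d_mem, F.R_two, ?_, ?_⟩
      · intro x hx
        obtain ⟨h1, h2⟩ := CTwoTab.Fi22.mem_pair.1 (F.R_le hx)
        exact mem_centralizer_singleton_iff.2 (CTwoTab.Fi22.comm_mul h1 h2)
      · intro c hc r hr
        exact F.R_normal c (mem_centralizer_singleton_iff.1 hc) r hr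
    · refine ⟨a, h.mx, CTwoTab.Fi22.ee (a * b * c), CTwoTab.Fi22.mem_a h, ?_, inf_le_right, CTwoTab.Fi22.ee_normal⟩
      intro x
      refine ⟨1, ?_⟩
      rw [pow_one, pow_two]
      exact Subtype.ext (CTwoTab.Fi22.ee_sq h x.2)
  obtain ⟨t, ht, N, k1, k2, k3, k4⟩ := hQ
  have htD : t ∈ D := rad_one hc hzD k2 k3 k4 k1
  have ht1 : t ≠ 1 := tf.ne _ ht
  -- another one
  obtain ⟨y, hy⟩ := hc.five
  have hs : y * t * y⁻¹ ∈ T := tf.conj y t ht
  have hsD : y * t * y⁻¹ ∈ D := (hy.norm t).2 htD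
  have hne : t ≠ y * t * y⁻¹ := fun h0 => ht1 (fix_one hc.e16 hy htD h0.symm)
  obtain ⟨R, F⟩ := CTwoTab.Fi22.facts ht hs hne (e16_comm hc.e16 htD hsD)
  have hR : R ≤ D := by
    refine rad_one hc (mul_mem htD hsD) F.R_two ?_ ?_
    · intro x hx
      obtain ⟨h1, h2⟩ := CTwoTab.Fi22.mem_pair.1 (F.R_le hx)
      exact mem_centralizer_singleton_iff.2 (CTwoTab.Fi22.comm_mul h1 h2)
    · intro c hc r hr
      exact F.R_normal c (mem_centralizer_singleton_iff.1 hc) r hr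
  have := finite_D hc.e16
  have h4 := Nat.card_le_card_of_injective _ (Subgroup.inclusion_injective hR)
  rw [hc.e16.card, F.R_card] at h4
  norm_num at h4

/-- **`Fi22`** -/
theorem E_Fi22 {S : Type*} [Group S] (h : Spor.IsoFi22 S) : NoCfg S := by
  obtain ⟨e⟩ := h
  exact noCfg_congr e noCfg_fi22

end Fi22

/-! ### `Fi23` -/

section Fi23

open Cfsg.Agent.Fischer.Fi23Z Cfsg.Agent.Fischer.Fi23Hom
open Cfsg.Agent.Fischer Cfsg.Agent.Fischer.Fi23Class Cfsg.Agent.Fischer.Fi23Simple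
open Cfsg.Agent.KFacts.FiTTh.Cent
open Cfsg.Spor Cfsg.Spor.Fi23
open Cfsg.Agent.CTwoTab Cfsg.Agent.CTwoTab.Fi23

/-- `C(z0)` is transitive on the other transpositions commuting with `z0` -/
theorem trans23 {v : Fi23} (hv : IsConj z0 v) (hc : z0 * v = v * z0) (hne : v ≠ z0) :
    ∃ h : Fi23, h * z0 = z0 * h ∧ h * gen .a * h⁻¹ = v := by
  have hfin : Finite Fi23 := Nat.finite_of_card_ne_zero (by rw [card_Fi23]; norm_num)
  obtain ⟨R, hR, hR0⟩ := Fi23Class.exists_rank3 card_le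
  have mem : ∀ v : Fi23, IsConj z0 v → ∃ y, R.t y = v := by
    intro v hv
    obtain ⟨g, hg⟩ := isConj_iff.1 hv
    exact ⟨g • R.x0, by rw [R.map_smul, hR, hg]⟩
  obtain ⟨yu, hyu⟩ := mem v hv
  obtain ⟨ya, hya⟩ := mem (gen .a) (isConj_gen card_le .a)
  have key : ∀ {y : Fi23 ⧸ K} {v : Fi23}, R.t y = v → z0 * v = v * z0 → v ≠ z0 →
      ∃ h : Fi23, h • R.x0 = R.x0 ∧ h • R.c = y := by
    intro y v hy hv hvz
    have h1 : R.Com R.x0 y := by rw [R.com_def, hR, hy, hv]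
    rcases R.com_x0_iff.1 h1 with h2 | h2
    · exfalso
      apply hvz
      rw [← hy, h2, hR]
    · exact h2
  obtain ⟨h1, h1x, h1c⟩ := key hyu hc hne
  obtain ⟨h2, h2x, h2c⟩ := key hya (comm_z0 card_le _ (gen_mem_K .a (by decide))).symm (fun h0 => by
    apply z0_ncomm
    rw [← h0]
    exact Fi23Class.gen_comm .a .j (by decide))
  have e1 : (h1 * h2⁻¹) • R.x0 = R.x0 := by
    rw [mul_smul, show h2⁻¹ • R.x0 = R.x0 by rw [inv_smul_eq_iff, h2x], h1x]
  have e2 : (h1 * h2⁻¹) • ya = yu := by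
    rw [← h2c, mul_smul, inv_smul_smul, h1c]
  refine ⟨h1 * h2⁻¹, ?_, ?_⟩
  · have h3 := R.map_smul (h1 * h2⁻¹) R.x0
    rw [e1, hR] at h3
    exact mul_inv_eq_iff_eq_mul.1 h3.symm
  · have h3 := R.map_smul (h1 * h2⁻¹) ya
    rw [e2, hyu, hya] at h3
    exact h3.symm

theorem two23' {a b : Fi23} (ha : IsConj z0 a) (hb : IsConj z0 b) (hab : a ≠ b) (hc : a * b = b * a) :
    ¬ IsConj z0 (a * b) := by
  intro h0
  obtain ⟨g, hg⟩ := isConj_iff.1 ha
  have hb' : IsConj z0 (g⁻¹ * b * g) := IsConj.trans hb (isConj_iff.2 ⟨g⁻¹, by group⟩)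
  have hg' : g⁻¹ * a * g = z0 := by rw [← hg]; group
  refine KKL.two23 hb' ?_ ?_ ?_
  · rw [← hg']
    calc g⁻¹ * a * g * (g⁻¹ * b * g) = g⁻¹ * (a * b) * g := by group
      _ = g⁻¹ * (b * a) * g := by rw [hc]
      _ = g⁻¹ * b * g * (g⁻¹ * a * g) := by group
  · intro h1
    apply hab
    rw [← hg'] at h1
    have h2 := congrArg (fun x => g * x * g⁻¹) h1
    calc a = g * (g⁻¹ * a * g) * g⁻¹ := by group
      _ = g * (g⁻¹ * b * g) * g⁻¹ := h2.symm
      _ = b := by group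
  · have h1 : IsConj z0 (g⁻¹ * (a * b) * g) := IsConj.trans h0 (isConj_iff.2 ⟨g⁻¹, by group⟩)
    have h2 : z0 * (g⁻¹ * b * g) = g⁻¹ * (a * b) * g := by rw [← hg']; group
    rwa [h2]

theorem sq23 {a : Fi23} (ha : IsConj z0 a) : a * a = 1 := by
  obtain ⟨g, rfl⟩ := isConj_iff.1 ha
  calc g * z0 * g⁻¹ * (g * z0 * g⁻¹) = g * (z0 * z0) * g⁻¹ := by group
    _ = 1 := by rw [z0_sq card_le]; group

/-- no five commuting transpositions with product `1` -/
theorem no_five {u₁ u₂ u₃ u₄ : Fi23} (h₁ : IsConj z0 u₁) (h₂ : IsConj z0 u₂) (h₃ : IsConj z0 u₃)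
    (h₄ : IsConj z0 u₄) (c₁ : z0 * u₁ = u₁ * z0) (c₂ : z0 * u₂ = u₂ * z0) (c₃ : z0 * u₃ = u₃ * z0)
    (c₄ : z0 * u₄ = u₄ * z0) (n₁ : u₁ ≠ z0) (n₂ : u₂ ≠ z0) (n₃ : u₃ ≠ z0) (n₄ : u₄ ≠ z0)
    (n₁₂ : u₁ ≠ u₂) (n₁₃ : u₁ ≠ u₃) (n₂₃ : u₂ ≠ u₃) (c₁₂ : u₁ * u₂ = u₂ * u₁) (c₁₃ : u₁ * u₃ = u₃ * u₁)
    (c₂₃ : u₂ * u₃ = u₃ * u₂) : z0 * u₁ * u₂ * u₃ * u₄ ≠ 1 := by
  intro h
  have tf := Cfsg.Agent.R08.AutT.tFacts
  obtain ⟨q, hq, hqk, hqg⟩ := exists_q
  have hzq : q Fi23Cover.zK = 1 := by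
    have h1 : q Fi23Cover.zK ∈ center Cfsg.Spor.Fi22 := by
      rw [mem_center_iff]
      intro g
      obtain ⟨g, rfl⟩ := hq g
      rw [← map_mul, ← map_mul, mem_center_iff.1 zK_center]
    have hcb := Fi23Cover.center_eq_bot_of_simple S1696.result.1 (by
      rw [S1696.result.2]
      intro hp
      exact absurd ((Nat.prime_dvd_prime_iff_eq Nat.prime_two hp).1 (by norm_num)) (by norm_num))
    rw [hcb] at h1
    exact h1
  have mk : ∀ {v : Fi23}, IsConj z0 v → z0 * v = v * z0 → v ≠ z0 →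
      ∃ V : ↥K, (V : Fi23) = v ∧ q V ∈ R08.AutT.T := by
    intro v hv hc hne
    obtain ⟨g, hg1, hg2⟩ := trans23 hv hc hne
    refine ⟨⟨g, (mem_K_iff _).2 hg1⟩ * Fi23Cover.kgen .a * ⟨g, (mem_K_iff _).2 hg1⟩⁻¹, hg2, ?_⟩
    rw [map_mul, map_mul, map_inv, hqg]
    exact tf.conj _ _ (mem_conjugatesOf_self)
  obtain ⟨U₁, e₁, m₁⟩ := mk h₁ c₁ n₁
  obtain ⟨U₂, e₂, m₂⟩ := mk h₂ c₂ n₂
  obtain ⟨U₃, e₃, m₃⟩ := mk h₃ c₃ n₃
  obtain ⟨U₄, e₄, m₄⟩ := mk h₄ c₄ n₄
  have comm : ∀ {U V : ↥K} {u v : Fi23}, (U : Fi23) = u → (V : Fi23) = v → u * v = v * u →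
      q U * q V = q V * q U := by
    rintro U V _ _ rfl rfl h0
    rw [← map_mul, ← map_mul]
    congr 1
    exact Subtype.ext h0
  have dist : ∀ {U V : ↥K} {u v : Fi23}, (U : Fi23) = u → (V : Fi23) = v → IsConj z0 u → IsConj z0 v →
      u * v = v * u → u ≠ v → q U ≠ q V := by
    rintro U V _ _ rfl rfl hu hv hc0 hne h0
    have h1 : q (U * V⁻¹) = 1 := by rw [map_mul, map_inv, h0, mul_inv_cancel]
    rcases hqk _ h1 with h2 | h2
    · exact hne (congrArg Subtype.val (mul_inv_eq_one.1 h2))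
    · apply two23' hu hv hne hc0
      have h3 : (U : Fi23) * (V : Fi23)⁻¹ = z0 := congrArg Subtype.val h2
      rw [inv_eq_of_mul_eq_one_left (sq23 hv)] at h3
      rw [h3]
  have tri : R01.FiFusion.Tri R08.AutT.T (q U₁) (q U₂) (q U₃) :=
    ⟨m₁, m₂, m₃, dist e₁ e₂ h₁ h₂ c₁₂ n₁₂, dist e₁ e₃ h₁ h₃ c₁₃ n₁₃, dist e₂ e₃ h₂ h₃ c₂₃ n₂₃, comm e₁ e₂ c₁₂,
      comm e₁ e₃ c₁₃, comm e₂ e₃ c₂₃⟩
  apply tf.prod _ _ _ tri
  have h5 : Fi23Cover.zK * U₁ * U₂ * U₃ * U₄ = 1 := by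
    refine Subtype.ext ?_
    show z0 * (U₁ : Fi23) * U₂ * U₃ * U₄ = 1
    rw [e₁, e₂, e₃, e₄, h]
  have h6 : q U₁ * q U₂ * q U₃ * q U₄ = 1 := by
    have h7 := congrArg q h5
    rw [map_mul, map_mul, map_mul, map_mul, hzq, one_mul, map_one] at h7
    exact h7
  have h8 : q U₁ * q U₂ * q U₃ = q U₄ := by
    rw [eq_inv_of_mul_eq_one_left h6, inv_eq_of_mul_eq_one_left (tf.sq _ m₄)]
  rw [h8]
  exact m₄

theorem qq23 (t : Fi23) (h1 : t * t = 1) (h2 : t ≠ 1) : QQ {x : Fi23 | IsConj z0 x} t := by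
  have hz00 : z0 * z0 = 1 := z0_sq card_le
  have hT : ∀ g : Fi23, ∀ t ∈ {x : Fi23 | IsConj z0 x}, g * t * g⁻¹ ∈ {x : Fi23 | IsConj z0 x} :=
    fun g t ht => IsConj.trans ht (isConj_iff.2 ⟨g, rfl⟩)
  have q1 : QQ {x : Fi23 | IsConj z0 x} z0 := by
    refine QQ.of_set (s := {z0}) (t := z0) (IsConj.refl z0) rfl ?_ ?_ ?_ ?_
    · rintro _ rfl
      exact hz00
    · rintro _ rfl _ rfl
      rfl
    · rintro _ rfl
      rfl
    · rintro c hc _ rfl
      rw [hc, mul_inv_cancel_right]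
      rfl
  have q2 : QQ {x : Fi23 | IsConj z0 x} W2 := by
    refine QQ.of_set (s := Ds2) (t := z0) (IsConj.refl z0) (Or.inl rfl) ?_ ?_ ?_ ?_
    · rintro _ (rfl | rfl)
      · exact hz00
      · exact aa
    · rintro _ (rfl | rfl) _ (rfl | rfl)
      · rfl
      · exact za.symm
      · exact za
      · rfl
    · intro x hx
      exact (hWD2 x hx).symm
    · intro c hc x hx
      exact perm2 hc hx
  have q3 : QQ {x : Fi23 | IsConj z0 x} W3 := by
    refine QQ.of_set (s := Ds3) (t := z0) (IsConj.refl z0) (Or.inl rfl) ?_ ?_ ?_ ?_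
    · rintro _ (rfl | rfl | rfl)
      · exact hz00
      · exact aa
      · exact cc
    · rintro _ (rfl | rfl | rfl) _ (rfl | rfl | rfl) <;>
        first | rfl | exact za | exact za.symm | exact zc | exact zc.symm | exact ac | exact ac.symm
    · intro x hx
      exact (hWD3 x hx).symm
    · intro c hc x hx
      exact perm3 hac hc hx
  rcases KFacts.FiTTh.Has.inv t h1 h2 with h | h | h
  · obtain ⟨g, hg⟩ := isConj_iff.1 h.symm
    rw [← hg]
    exact q1.conj hT g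
  · obtain ⟨g, hg⟩ := isConj_iff.1 h.symm
    rw [← hg]
    exact q2.conj hT g
  · obtain ⟨g, hg⟩ := isConj_iff.1 h.symm
    rw [← hg]
    exact q3.conj hT g

theorem noCfg_fi23 : NoCfg Fi23 := by
  intro D x hc
  obtain ⟨z, hzD, hz1⟩ := exists_ne_one hc.e16
  obtain ⟨t, ht, N, k1, k2, k3, k4⟩ := qq23 z (hc.e16.inv z hzD) hz1
  have htD : t ∈ D := rad_one hc hzD k2 k3 k4 k1
  have ht : IsConj z0 t := ht
  have ht1 : t ≠ 1 := by
    rintro rfl
    apply z0_ncomm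
    rw [isConj_one_right.1 ht.symm, one_mul, mul_one]
  obtain ⟨y, hy⟩ := hc.five
  obtain ⟨f, f0, fD, fT, fne, f1⟩ := orbit hc.e16 hy htD ht1
  obtain ⟨g, hg⟩ := isConj_iff.1 ht.symm
  -- the conjugates by `g`
  have hu : ∀ i, IsConj z0 (g * f i * g⁻¹) := by
    intro i
    obtain ⟨k, hk⟩ := fT i
    exact (ht.trans (isConj_iff.2 ⟨k, hk.symm⟩)).trans (isConj_iff.2 ⟨g, rfl⟩)
  have hcm : ∀ i j, g * f i * g⁻¹ * (g * f j * g⁻¹) = g * f j * g⁻¹ * (g * f i * g⁻¹) := by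
    intro i j
    calc g * f i * g⁻¹ * (g * f j * g⁻¹) = g * (f i * f j) * g⁻¹ := by group
      _ = g * (f j * f i) * g⁻¹ := by rw [e16_comm hc.e16 (fD i) (fD j)]
      _ = g * f j * g⁻¹ * (g * f i * g⁻¹) := by group
  have h0 : g * f 0 * g⁻¹ = z0 := by rw [f0, hg]
  have hne : ∀ i < 5, ∀ j < 5, i ≠ j → g * f i * g⁻¹ ≠ g * f j * g⁻¹ := by
    intro i hi j hj hij h1
    exact hij (fne i hi j hj (mul_left_cancel (mul_right_cancel h1)))
  refine no_five (hu 1) (hu 2) (hu 3) (hu 4) ?_ ?_ ?_ ?_ ?_ ?_ ?_ ?_ (hne 1 (by norm_num) 2 (by norm_num) (by norm_num))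
    (hne 1 (by norm_num) 3 (by norm_num) (by norm_num)) (hne 2 (by norm_num) 3 (by norm_num) (by norm_num))
    (hcm 1 2) (hcm 1 3) (hcm 2 3) ?_
  · rw [← h0]; exact hcm 0 1
  · rw [← h0]; exact hcm 0 2
  · rw [← h0]; exact hcm 0 3
  · rw [← h0]; exact hcm 0 4
  · rw [← h0]; exact hne 1 (by norm_num) 0 (by norm_num) (by norm_num)
  · rw [← h0]; exact hne 2 (by norm_num) 0 (by norm_num) (by norm_num)
  · rw [← h0]; exact hne 3 (by norm_num) 0 (by norm_num) (by norm_num)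
  · rw [← h0]; exact hne 4 (by norm_num) 0 (by norm_num) (by norm_num)
  · rw [← h0]
    calc g * f 0 * g⁻¹ * (g * f 1 * g⁻¹) * (g * f 2 * g⁻¹) * (g * f 3 * g⁻¹) * (g * f 4 * g⁻¹)
        = g * (f 0 * f 1 * f 2 * f 3 * f 4) * g⁻¹ := by group
      _ = 1 := by rw [f1]; group

/-- **`Fi23`** -/
theorem E_Fi23 {S : Type*} [Group S] (h : Spor.IsoFi23 S) : NoCfg S := by
  obtain ⟨e⟩ := h
  exact noCfg_congr e noCfg_fi23

end Fi23

end Cfsg.Agent.H842.KS
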